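import Cfsg.Agent.Lib.E8Core.Parab

/-!
The first step: a normal subgroup of the parabolic subgroup whose conjugate by the simple reflection stays
inside the parabolic subgroup lies in the second layer; and the resulting description of all layers.
-/

set_option autoImplicit false

namespace Cfsg.Agent.E8Core

open Cfsg.Lie Cfsg.Lib.Chev
open scoped Pointwise commutatorElement

/-- Triples `(j, q, r)`: the fundamental root `j` is the difference of the roots `q` and `r` of level one. -/
def diffs : List (ℕ × ℕ × ℕ) :=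
  [(0, 164, 136), (1, 142, 130), (2, 136, 130), (4, 131, 130), (5, 132, 131), (6, 133, 132), (7, 134, 133)]

theorem chk_diffs : ∀ j < 8, j = 3 ∨ ∃ p ∈ diffs, p.1 = j ∧ p.2.1 < 240 ∧ p.2.2 < 240 ∧ lvl p.2.1 = 1 ∧
    lvl p.2.2 = 1 ∧ commOK (tblE8.neg p.2.2) p.2.1 (tblE8.simp' j) = true := by decide +kernel

theorem chk_base : ∀ q ∈ tops 0, ∃ p < 240, lvl p = 1 ∧ commOK q 130 p = true ∧ sumOK q 130 p = true := by
  have h : ∀ q ∈ tops 0, lvl (sumRoot q 130) = 1 ∧ sumRoot q 130 < 240 ∧ commOK q 130 (sumRoot q 130) = true ∧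
      sumOK q 130 (sumRoot q 130) = true := by decide +kernel
  exact fun q hq => ⟨_, (h q hq).2.1, (h q hq).1, (h q hq).2.2.1, (h q hq).2.2.2⟩

theorem branch : tblE8.simp' 3 = 130 ∧ lvl 130 = 1 := by decide +kernel

theorem X_inj {a b : ℕ} (ha : a < 240) (hb : b < 240) (h : X a = X b) : a = b := by
  by_contra hne
  have := congrArg (rd a) h
  rw [rd_X ha ha, rd_X ha hb, if_pos rfl, if_neg hne] at this
  exact one_ne_zero this

theorem pos_le_H : chevE8.posUnipotent K2 ≤ H 1 := by
  refine (Subgroup.closure_le _).2 ?_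
  rintro g ⟨r, t, hr, e⟩
  rw [eq_xg cE e]
  have hp := (cE.isPos_iff hr.1).1 hr
  have hr' : r < 240 := nrootsE ▸ hr.1
  rw [nrootsE] at hp
  exact xg_mem (X_mem_H hr' ((facts hr').2.2.1 (by omega))) t

theorem diag_bot {h : GE} (hh : h ∈ chevE8.diagonalSubgroup K2) : h = 1 := by
  obtain ⟨c, hc, e⟩ := coe_diagonal cE hh
  refine Units.ext ?_
  rw [e, Units.val_one]
  have : ∀ j < chevE8.rank, c j = 1 := fun j hj => k2_unit (hc j hj)
  rw [scal, Matrix.diagonal_eq_one]
  funext i
  rcases i with i | i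
  · rfl
  · simp only [Sum.elim_inr, Pi.one_apply, chr]
    exact Finset.prod_eq_one fun j hj => by rw [this j (Finset.mem_range.1 hj), one_zpow]

theorem mem_group_of_P : P ≤ chevE8.group K2 :=
  (Subgroup.closure_le _).2 fun _ ⟨r, _, _, e⟩ => e ▸ xg_mem_group cE r 1

/-- The step from the first layer. -/
theorem step_one {N : Subgroup GE} (hN : ∀ g ∈ P, ∀ y ∈ N, g * y * g⁻¹ ∈ N) (hNV : N ≤ V 1)
    (hs : ∀ y ∈ N, sw * y * sw⁻¹ ∈ gshiftGroup chevE8 K2 lvl 0 le_rfl) : N ≤ V 2 := by
  refine step (k := 1) (c := 0) (bad := 130) (w := [4, 5, 6, 7, 2, 1, 0]) (top := 173) le_rfl (by norm_num) rfl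
    (by decide) (by decide +kernel) (by decide +kernel) ?_ hN hNV hs
  decide +kernel

theorem base {N : Subgroup GE} (hN : ∀ g ∈ P, ∀ y ∈ N, g * y * g⁻¹ ∈ N) (hNP : N ≤ P)
    (hs : ∀ y ∈ N, sw * y * sw⁻¹ ∈ gshiftGroup chevE8 K2 lvl 0 le_rfl) : N ≤ V 2 := by
  have hNV : N ⊓ V 1 ≤ V 2 := step_one (N := N ⊓ V 1)
    (fun g hg y hy => ⟨hN g hg y hy.1, P_norm_V le_rfl hg hy.2⟩) inf_le_right fun y hy => hs y hy.1
  have hcomm : ∀ x ∈ N, ∀ y ∈ V 1, ⁅x, y⁆ ∈ V 2 := by
    intro x hx y hy
    refine hNV (Subgroup.mem_inf.2 ⟨?_, ?_⟩)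
    · rw [commutatorElement_def, show x * y * x⁻¹ * y⁻¹ = x * (y * x⁻¹ * y⁻¹) by group]
      exact mul_mem hx (hN y (V_le_P le_rfl hy) _ (inv_mem hx))
    · rw [commutatorElement_def]
      exact mul_mem (P_norm_V le_rfl (hNP hx) hy) (inv_mem hy)
  intro n hn
  obtain ⟨u, hu, m, hm, v, hv, e⟩ := bruhat cE fullCertE8 (mem_group_of_P (hNP hn))
  obtain ⟨w, hw, h, hh, rfl⟩ := (mem_monomial cE).1 hm
  rw [diag_bot hh, mul_one] at e
  have huH := pos_le_H hu
  generalize hM : wnu cE K2 w = M at e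
  have hn' : M * (v * u) ∈ N := by
    have := hN u⁻¹ (inv_mem (H_le_P le_rfl huH)) n hn
    rwa [e, show u⁻¹ * (u * M * v) * u⁻¹⁻¹ = M * (v * u) by group] at this
  have hvu : v * u ∈ H 1 := mul_mem (pos_le_H hv) huH
  have hMP : M ∈ P := by
    have := mul_mem (hNP hn') (inv_mem (H_le_P le_rfl hvu))
    rwa [mul_inv_cancel_right] at this
  -- the Weyl element fixes every root of level one
  have fix1 : ∀ (j : ℕ), ∀ r < 240, lvl r = 1 → 200 ≤ wt r + j → wperm tblE8 w r = r := by
    intro j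
    induction j with
    | zero =>
      intro r hr hl hj
      have := (facts hr).1 ((facts hr).2.1 (by omega))
      omega
    | succ j ih =>
      intro r hr hl hj
      have hr1 : 1 ≤ wt r := (facts hr).2.1 (by omega)
      obtain ⟨hlo, hhi, -⟩ := (facts hr).1 hr1
      have hrV : X r ∈ V 1 := X_mem_V le_rfl hr (by omega)
      have hc := hcomm _ hn' _ hrV
      have he : ⁅v * u, X r⁆ ∈ H (wt r + 1) := H_anti (by omega) (comm_mem le_rfl hr1 hvu (X_mem_H hr le_rfl))
      have hMe : M * ⁅v * u, X r⁆ * M⁻¹ ∈ H (wt r + 1) := by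
        refine conj_mem_of_gen ?_ he
        rintro x ⟨p, hp, hpw, rfl⟩
        have hp1 : (1 : ℤ) ≤ lvl p := by
          have := (facts hp).1 (by omega)
          omega
        rcases hp1.lt_or_eq with h2 | h1
        · exact H_anti (by omega) (P_norm_V (k := 2) (by norm_num) hMP (X_mem_V (by norm_num) hp (by omega)))
        · rw [← hM, wnu_X hw hp, ih p hp h1.symm (by omega)]
          exact X_mem_H hp hpw
      have eq : ⁅M * (v * u), X r⁆ = (M * ⁅v * u, X r⁆ * M⁻¹) * X (wperm tblE8 w r) * X r := by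
        rw [← wnu_X hw hr, hM]
        nth_rewrite 4 [← X_inv r]
        simp only [commutatorElement_def]
        group
      rw [eq] at hc
      have hV2 : V 2 ≤ H (wt r + 1) := H_anti (by omega)
      have hq : wperm tblE8 w r < 240 := nrootsE ▸ wperm_lt cE hw (nrootsE ▸ hr)
      have hz : X (wperm tblE8 w r) * X r ∈ H (wt r + 1) := by
        have := mul_mem (inv_mem hMe) (hV2 hc)
        rwa [show ∀ a b c : GE, a⁻¹ * (a * b * c) = b * c from fun a b c => by group] at this
      generalize wperm tblE8 w r = q at hq hz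
      by_contra hne
      rcases lt_trichotomy (wt q) (wt r) with hlt | heq | hgt
      · have hq' : X q ∈ H (wt r) := by
          have := mul_mem (H_anti (by omega) hz) (inv_mem (X_mem_H hr le_rfl))
          rwa [mul_inv_cancel_right] at this
        have := rd_H_zero hr1 hlt hq'
        rw [rd_X hq hq, if_pos rfl] at this
        exact one_ne_zero this
      · have := rd_H_zero (d := wt r + 1) (by omega) (by omega : wt r < wt r + 1) hz
        rw [rd_H_mul hr1 rfl (X_mem_H hq heq.ge) (X_mem_H hr le_rfl), rd_X hr hq, rd_X hr hr, if_pos rfl,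
          if_neg (Ne.symm hne), zero_add] at this
        exact one_ne_zero this
      · have hr' : X r ∈ H (wt r + 1) := by
          have := mul_mem (inv_mem (X_mem_H hq (show wt r + 1 ≤ wt q by omega))) hz
          rwa [inv_mul_cancel_left] at this
        have := rd_H_zero (d := wt r + 1) (by omega) (by omega : wt r < wt r + 1) hr'
        rw [rd_X hr hr, if_pos rfl] at this
        exact one_ne_zero this
  have fixr : ∀ r < 240, lvl r = 1 → wperm tblE8 w r = r := fun r hr hl => fix1 200 r hr hl (by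
    have := (facts hr).2.1 (by omega)
    omega)
  -- hence every fundamental root
  have fixs : ∀ j < chevE8.rank, wperm tblE8 w (tblE8.simp' j) = tblE8.simp' j := by
    intro j hj
    rw [rankE] at hj
    rcases chk_diffs j hj with rfl | ⟨⟨j', q, r⟩, -, -, hq, hr, hlq, hlr, hok⟩
    · rw [branch.1]
      exact fixr 130 (by norm_num) branch.2
    have hnr : tblE8.neg r < 240 := nrootsE ▸ cE.spec.neg_lt r (nrootsE ▸ hr)
    have hs : tblE8.simp' j < 240 := nrootsE ▸ cE.spec.simp_lt j (rankE ▸ hj)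
    have hc := comm_of_ok hnr hq hok
    have hc' : ⁅M * X q * M⁻¹, M * X (tblE8.neg r) * M⁻¹⁆ = M * X (tblE8.simp' j) * M⁻¹ := by
      rw [← hc]; simp only [commutatorElement_def]; group
    rw [← hM, wnu_X hw hq, wnu_X hw hnr, wnu_X hw hs, wperm_neg cE hw (nrootsE ▸ hr), fixr q hq hlq,
      fixr r hr hlr, hc] at hc'
    exact (X_inj hs (nrootsE ▸ wperm_lt cE hw (nrootsE ▸ hs)) hc').symm
  have hM1 : M = 1 := by
    rw [← hM]
    exact diag_bot (word_kernel cE fullCertE8 w.length rfl hw fun k hk => by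
      rw [fixs k hk]; exact fullCertE8.simple_pos hk)
  rw [hM1, one_mul] at hn'
  -- the remaining element is unipotent
  have hV1 : v * u ∈ V 1 := by
    by_contra hnot
    obtain ⟨q, hq, hq', hq1, hql, y, hyN, hy, hy1⟩ := raise (N := N) (fun g hg => hN g (H_le_P le_rfl hg)) 0
      100 1 (v * u) (by norm_num) le_rfl (by norm_num) hn' hvu (by simpa [V] using hnot)
    obtain ⟨p, hp, hpl, hc, hsum⟩ := chk_base q hq
    have h130 : 1 ≤ wt 130 := (facts (by norm_num)).2.1 (by rw [branch.2])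
    have hd : rd p ⁅X 130, y⁆ = 1 := by
      rw [rd_comm hq1 hq' rfl (by norm_num) h130 hp (sum_of_ok hsum)
        (by rw [comm_of_ok hq' (by norm_num) hc, rd_X hp hp, if_pos rfl]) hy, hy1]
    have hin : ⁅X 130, y⁆ ∈ V 2 := by
      rw [← commutatorElement_inv]
      exact inv_mem (hcomm y hyN _ (X_mem_V le_rfl (by norm_num) (by rw [branch.2]; rfl)))
    have := rd_H_zero (d := 100 * ((2 : ℕ) : ℤ)) (by norm_num) (q := p) (by
      have := (facts hp).1 ((facts hp).2.1 (by omega))
      push_cast; omega) hin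
    rw [hd] at this
    exact one_ne_zero this
  have := hNV ⟨hn', hV1⟩
  have hback := P_norm_V (k := 2) (by norm_num) (H_le_P le_rfl huH) this
  rwa [e, hM1, mul_one, show u * v = u * (v * u) * u⁻¹ by group]

/-- The steps between the higher layers. -/
theorem step_up {k : ℕ} (hk : 2 ≤ k) (hk6 : k ≤ 6) {N : Subgroup GE} (hN : ∀ g ∈ P, ∀ y ∈ N, g * y * g⁻¹ ∈ N)
    (hNV : N ≤ V k) (hs : ∀ y ∈ N, sw * y * sw⁻¹ ∈ V k) : N ≤ V (k + 1) := by
  have hs' := fun y hy => V_shift (by omega : 1 ≤ k) (hs y hy)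
  obtain rfl | rfl | rfl | rfl | rfl : k = 2 ∨ k = 3 ∨ k = 4 ∨ k = 5 ∨ k = 6 := by omega
  · exact step (k := 2) (c := 2) (bad := 177) (w := [4, 5, 6, 2]) (top := 193) (by norm_num) hk6 rfl (by decide)
      (by decide +kernel) (by decide +kernel) (by decide +kernel) hN hNV hs'
  · exact step (k := 3) (c := 3) (bad := 199) (w := [4, 5, 1]) (top := 213) (by norm_num) hk6 rfl (by decide)
      (by decide +kernel) (by decide +kernel) (by decide +kernel) hN hNV hs'
  · exact step (k := 4) (c := 4) (bad := 217) (w := [4, 2, 0]) (top := 230) (by norm_num) hk6 rfl (by decide)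
      (by decide +kernel) (by decide +kernel) (by decide +kernel) hN hNV hs'
  · exact step (k := 5) (c := 5) (bad := 231) (w := [2, 1]) (top := 234) (by norm_num) hk6 rfl (by decide)
      (by decide +kernel) (by decide +kernel) (by decide +kernel) hN hNV hs'
  · exact step (k := 6) (c := 6) (bad := 235) (w := [4, 5, 6, 7]) (top := 239) (by norm_num) le_rfl rfl (by decide)
      (by decide +kernel) (by decide +kernel) (by decide +kernel) hN hNV hs'

theorem sw_V_two {y : GE} (hy : y ∈ V 2) : sw * y * sw⁻¹ ∈ P := V_le_P le_rfl (sw_V le_rfl hy)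

theorem P_eq : chevE8.parabolicSubgroup K2 {j | j ≠ 3} = P := by
  rw [parabolic_eq cE fullCertE8]
  refine le_antisymm (sup_le (fun h hh => diag_bot hh ▸ one_mem _) ((Subgroup.closure_le _).2 ?_))
    (le_sup_of_le_right (Subgroup.closure_mono ?_))
  · rintro g ⟨r, t, hr, e⟩
    rw [eq_xg cE e]
    refine xg_mem ?_ t
    rcases hr with hr | hr
    · have hp := (cE.isPos_iff hr.1).1 hr
      have hr' : r < 240 := nrootsE ▸ hr.1
      rw [nrootsE] at hp
      exact X_mem_P hr' (lvl_nonneg_of_wt hr' ((facts hr').2.2.1 (by omega)))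
    · have hr' : r < 240 := nrootsE ▸ hr.1
      refine X_mem_P hr' ?_
      rw [(facts hr').2.2.2.2.1, ((inRootSub_iff cE).1 hr).2 3 (by rw [rankE]; norm_num) (by simp)]
  · rintro g ⟨r, hr, hl, rfl⟩
    refine ⟨r, 1, ?_, coe_xg cE r 1⟩
    by_cases hp : 120 ≤ r
    · exact Or.inl ((cE.isPos_iff (nrootsE ▸ hr)).2 (by rw [nrootsE]; omega))
    · refine Or.inr ((inRootSub_iff cE).2 ⟨nrootsE ▸ hr, fun k _ hk => ?_⟩)
      obtain rfl : k = 3 := not_not.1 hk
      rw [← (facts hr).2.2.2.2.1]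
      have := (facts hr).2.2.2.1 (by omega)
      omega

theorem sep : lvl (tblE8.refl' 3 130) < 0 ∧ (0 : ℤ) ≤ lvl 130 ∧ (6 : ℤ) ≤ lvl 239 := by decide +kernel

theorem X_ne_one {r : ℕ} (hr : r < 240) : X r ≠ 1 := fun h => by
  have := congrArg (rd r) h
  rw [rd_X hr hr, if_pos rfl, rd_one] at this
  exact one_ne_zero this

end Cfsg.Agent.E8Core
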