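import Cfsg.Agent.Lib.Chev.FullAll
import Cfsg.Agent.Lib.Chev.Borel
import Cfsg.Agent.Lib.Chev.BN
import Cfsg.Agent.Lib.Chev.Perfect
import Cfsg.Agent.Lib.Chev.NormalForm

/-!
Height filtrations of the unipotent group of the Chevalley group of type E8 over the field with two elements,
adapted to the maximal parabolic subgroup belonging to the branch node.
-/

set_option autoImplicit false

namespace Cfsg.Agent.E8Core

open Cfsg.Lie Cfsg.Lib.Chev
open scoped Pointwise commutatorElement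

/-- The field with two elements. -/
abbrev K2 := ZMod 2

/-- The ambient matrix group. -/
abbrev GE := GL chevE8.Idx K2

/-- The table certificate. -/
theorem cE : Cert chevE8 tblE8 := fullCertE8.comm.cert

/-- The commutator certificate. -/
theorem kE : CommCert chevE8 tblE8 := fullCertE8.comm

theorem nrootsE : chevE8.nroots = 240 := cE.spec.shape.nroots_eq.trans rfl

theorem rankE : chevE8.rank = 8 := cE.spec.shape.rank_eq.trans rfl

/-- The coefficient of the branch node. -/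
def lvl (r : ℕ) : ℤ := fval tblE8 [10, 15, 20, 30, 24, 18, 12, 6] r

/-- One hundred times the level plus the height. -/
def wt (r : ℕ) : ℤ := fval tblE8 [1046, 1568, 2091, 3135, 2510, 1884, 1257, 629] r

theorem lvl_lin : IsLin chevE8 tblE8 lvl := fval_isLin cE _

theorem wt_lin : IsLin chevE8 tblE8 wt := fval_isLin cE _

/-- The root element with parameter one. -/
noncomputable def X (r : ℕ) : GE := xg cE r 1

theorem k2_cases : ∀ t : K2, t = 0 ∨ t = 1 := by decide

theorem k2_unit : ∀ {t : K2}, t ≠ 0 → t = 1 := by decide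

theorem xg_cases (r : ℕ) (t : K2) : xg cE r t = 1 ∨ xg cE r t = X r := by
  rcases k2_cases t with rfl | rfl
  · exact Or.inl (xg_zero cE r)
  · exact Or.inr rfl

theorem X_inv (r : ℕ) : (X r)⁻¹ = X r := by
  rw [X, xg_inv, show (-1 : K2) = 1 by decide]

theorem xg_mem {S : Subgroup GE} {r : ℕ} (h : X r ∈ S) (t : K2) : xg cE r t ∈ S := by
  rcases xg_cases r t with e | e <;> rw [e]
  exacts [one_mem _, h]

/-- The elements of level at least `d` for `wt`. -/
def H (d : ℤ) : Subgroup GE := Subgroup.closure {x | ∃ r, r < 240 ∧ d ≤ wt r ∧ x = X r}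

theorem X_mem_H {d : ℤ} {r : ℕ} (hr : r < 240) (h : d ≤ wt r) : X r ∈ H d :=
  Subgroup.subset_closure ⟨r, hr, h, rfl⟩

theorem H_anti {a b : ℤ} (h : a ≤ b) : H b ≤ H a :=
  (Subgroup.closure_le _).2 fun _ ⟨r, hr, hd, e⟩ => e ▸ X_mem_H hr (h.trans hd)

theorem H_shift {d : ℤ} (hd : 0 ≤ d) : H d ≤ gshiftGroup chevE8 K2 wt d hd :=
  (Subgroup.closure_le _).2 fun _ ⟨r, hr, h, e⟩ =>
    e ▸ xg_mem_gshift cE wt_lin (nrootsE ▸ hr) 1 h hd

/-- A commutator of root elements. -/
theorem comm_X {r s : ℕ} (hr : r < 240) (hs : s < 240) (h1 : s ≠ r) (h2 : s ≠ tblE8.neg r) :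
    ∃ l : List (ℕ × K2), (∀ p ∈ l, p.1 < 240 ∧ ∃ i j : ℕ, 1 ≤ i ∧ 1 ≤ j ∧
        ∀ k < chevE8.rank, tblE8.cartan k p.1 = (i : ℤ) * tblE8.cartan k r + (j : ℤ) * tblE8.cartan k s) ∧
      ⁅X s, X r⁆ = (l.map fun p => xg cE p.1 p.2).prod := by
  obtain ⟨l, hl, e⟩ := comm_xg cE kE (nrootsE ▸ hr) (nrootsE ▸ hs) h1 h2 (1 : K2) 1
  refine ⟨l, fun p hp => ⟨nrootsE ▸ (hl p hp).1, (hl p hp).2⟩, ?_⟩
  change X s * X r = X r * X s * _ at e
  rw [commutatorElement_def, X_inv, X_inv, e]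
  have a : X r * X r = 1 := by nth_rewrite 1 [← X_inv r]; exact inv_mul_cancel _
  have b : X s * X s = 1 := by nth_rewrite 1 [← X_inv s]; exact inv_mul_cancel _
  have e' : (l.map fun p => xg cE p.1 p.2).prod = (X r * X s)⁻¹ * (X s * X r) := by rw [e]; group
  have e'' : X s * X r * X s * X r = (X r * X s)⁻¹ * (X s * X r) := by
    rw [mul_inv_rev, X_inv, X_inv]; group
  rw [← e, e', e'']

theorem wt_neg {r : ℕ} (hr : r < 240) : wt (tblE8.neg r) = -wt r :=
  isLin_neg cE wt_lin (nrootsE ▸ hr)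

theorem wt_eq {p r s : ℕ} {i j : ℕ}
    (h : ∀ k < chevE8.rank, tblE8.cartan k p = (i : ℤ) * tblE8.cartan k r + (j : ℤ) * tblE8.cartan k s) :
    wt p = (i : ℤ) * wt r + (j : ℤ) * wt s := wt_lin _ _ _ _ _ h

theorem lvl_eq {p r s : ℕ} {i j : ℕ}
    (h : ∀ k < chevE8.rank, tblE8.cartan k p = (i : ℤ) * tblE8.cartan k r + (j : ℤ) * tblE8.cartan k s) :
    lvl p = (i : ℤ) * lvl r + (j : ℤ) * lvl s := lvl_lin _ _ _ _ _ h

theorem comm_gen {a b : ℤ} (ha : 1 ≤ a) (hb : 1 ≤ b) {r s : ℕ} (hr : r < 240) (hs : s < 240)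
    (hra : a ≤ wt r) (hsb : b ≤ wt s) : ⁅X r, X s⁆ ∈ H (a + b) := by
  by_cases h : r = s
  · subst h; rw [commutatorElement_self]; exact one_mem _
  have h2 : r ≠ tblE8.neg s := fun e => by have := wt_neg hs; rw [← e] at this; omega
  obtain ⟨l, hl, e⟩ := comm_X hs hr h h2
  rw [e]
  refine Subgroup.list_prod_mem (H (a + b)) fun x hx => ?_
  obtain ⟨p, hp, rfl⟩ := List.mem_map.1 hx
  obtain ⟨hp1, i, j, hi, hj, hw⟩ := hl p hp
  refine xg_mem (X_mem_H hp1 ?_) _
  rw [wt_eq hw]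
  have : (1 : ℤ) ≤ i := by exact_mod_cast hi
  have : (1 : ℤ) ≤ j := by exact_mod_cast hj
  nlinarith

theorem X_norm {c : ℤ} (hc : 1 ≤ c) {r : ℕ} (hr : r < 240) (hra : 1 ≤ wt r) :
    X r ∈ Subgroup.normalizer (H c : Set GE) := by
  have key : ∀ x ∈ {x | ∃ q, q < 240 ∧ c ≤ wt q ∧ x = X q}, X r * x * (X r)⁻¹ ∈ H c := by
    rintro x ⟨q, hq, hqc, rfl⟩
    rw [show X r * X q * (X r)⁻¹ = ⁅X r, X q⁆ * X q by rw [commutatorElement_def]; group]
    exact mul_mem (H_anti (by omega) (comm_gen le_rfl hc hr hq hra hqc)) (X_mem_H hq hqc)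
  refine mem_normalizer_closure key fun x hx => ?_
  have := key x hx
  rwa [X_inv] at this ⊢

theorem H_le_norm {c d : ℤ} (hc : 1 ≤ c) (hd : 1 ≤ d) : H d ≤ Subgroup.normalizer (H c : Set GE) :=
  (Subgroup.closure_le _).2 fun _ ⟨_, hr, h, e⟩ => e ▸ X_norm hc hr (hd.trans h)

theorem H_conj {c : ℤ} (hc : 1 ≤ c) {x y : GE} (hx : x ∈ H 1) (hy : y ∈ H c) : x * y * x⁻¹ ∈ H c :=
  (Subgroup.mem_normalizer_iff.1 (H_le_norm hc le_rfl hx) y).1 hy

theorem comm_right {a b : ℤ} (ha : 1 ≤ a) (hb : 1 ≤ b) {r : ℕ} (hr : r < 240) (hra : a ≤ wt r)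
    {y : GE} (hy : y ∈ H b) : ⁅X r, y⁆ ∈ H (a + b) := by
  induction hy using Subgroup.closure_induction with
  | mem y hy => obtain ⟨q, hq, hqb, rfl⟩ := hy; exact comm_gen ha hb hr hq hra hqb
  | one => simp
  | mul y z hy _ ihy ihz =>
    rw [show ⁅X r, y * z⁆ = ⁅X r, y⁆ * (y * ⁅X r, z⁆ * y⁻¹) by
      simp only [commutatorElement_def]; group]
    exact mul_mem ihy (H_conj (by omega) (H_anti hb hy) ihz)
  | inv y hy ih =>
    rw [show ⁅X r, y⁻¹⁆ = y⁻¹ * (⁅X r, y⁆)⁻¹ * y⁻¹⁻¹ by simp only [commutatorElement_def]; group]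
    exact H_conj (by omega) (inv_mem (H_anti hb hy)) (inv_mem ih)

theorem comm_mem {a b : ℤ} (ha : 1 ≤ a) (hb : 1 ≤ b) {x y : GE} (hx : x ∈ H a) (hy : y ∈ H b) :
    ⁅x, y⁆ ∈ H (a + b) := by
  induction hx using Subgroup.closure_induction with
  | mem x hx => obtain ⟨q, hq, hqa, rfl⟩ := hx; exact comm_right ha hb hq hqa hy
  | one => simp
  | mul x z hx _ ihx ihz =>
    rw [show ⁅x * z, y⁆ = (x * ⁅z, y⁆ * x⁻¹) * ⁅x, y⁆ by simp only [commutatorElement_def]; group]
    exact mul_mem (H_conj (by omega) (H_anti ha hx) ihz) ihx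
  | inv x hx ih =>
    rw [show ⁅x⁻¹, y⁆ = x⁻¹ * (⁅x, y⁆)⁻¹ * x⁻¹⁻¹ by simp only [commutatorElement_def]; group]
    exact H_conj (by omega) (inv_mem (H_anti ha hx)) (inv_mem ih)

/-! ### Reading coordinates -/

/-- A fundamental root with odd Cartan integer against `r`. -/
def cidx (r : ℕ) : ℕ := ((List.range 8).find? fun c => decide (tblE8.cartan c r % 2 ≠ 0)).getD 0

theorem chk_cidx : allBelow (fun r => decide (cidx r < 8 ∧ tblE8.cartan (cidx r) r % 2 ≠ 0)) 240 = true := by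
  decide +kernel

theorem cidx_spec {r : ℕ} (hr : r < 240) : cidx r < 8 ∧ tblE8.cartan (cidx r) r % 2 ≠ 0 :=
  of_decide_eq_true (allBelow_iff.1 chk_cidx r hr)

open Classical in
/-- The coordinate at the root `q`. -/
noncomputable def rd (q : ℕ) (x : GE) : K2 :=
  if h : q < chevE8.nroots ∧ cidx q < chevE8.rank then
    (x.val - 1) (Sum.inr ⟨q, h.1⟩) (Sum.inl ⟨cidx q, h.2⟩) else 0

theorem rd_X {q r : ℕ} (hq : q < 240) (hr : r < 240) : rd q (X r) = if q = r then 1 else 0 := by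
  have h : q < chevE8.nroots ∧ cidx q < chevE8.rank :=
    ⟨nrootsE ▸ hq, rankE ▸ (cidx_spec hq).1⟩
  rw [rd, dif_pos h, X, coe_xg, Matrix.sub_apply, x_inr_inl cE.spec (nrootsE ▸ hr),
    Matrix.one_apply_ne (by simp), sub_zero]
  simp only
  split_ifs with e
  · subst e
    rw [mul_one]
    refine k2_unit (neg_ne_zero.2 ?_)
    rw [Ne, ZMod.intCast_zmod_eq_zero_iff_dvd]
    have := (cidx_spec hq).2
    push_cast
    omega
  · rfl

theorem rd_one (q : ℕ) : rd q 1 = 0 := by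
  unfold rd; split_ifs <;> simp

theorem rd_zero_of_lt {φ : ℕ → ℤ} {c : ℤ} (hc : 0 ≤ c) {q : ℕ} {x : GE}
    (hx : x ∈ gshiftGroup chevE8 K2 φ c hc) (h : φ q < c) : rd q x = 0 := by
  unfold rd
  split_ifs with h'
  · by_contra hne
    have := hx.1 _ _ hne
    simp only [glev] at this
    omega
  · rfl

theorem rd_mul {φ : ℕ → ℤ} {c : ℤ} (hc : 0 < c) {q : ℕ} (hq : φ q < 2 * c) {x y : GE}
    (hx : x ∈ gshiftGroup chevE8 K2 φ c hc.le) (hy : y ∈ gshiftGroup chevE8 K2 φ c hc.le) :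
    rd q (x * y) = rd q x + rd q y := by
  unfold rd
  split_ifs with h
  · have e : (x * y).val - 1 = (x.val - 1) * (y.val - 1) + (x.val - 1) + (y.val - 1) := by
      simp only [Units.val_mul, sub_mul, mul_sub, mul_one, one_mul]; abel
    rw [e, Matrix.add_apply, Matrix.add_apply, Matrix.mul_apply,
      Finset.sum_eq_zero fun m _ => ?_, zero_add]
    by_contra hne
    have h1 := hx.1 _ m (left_ne_zero_of_mul hne)
    have h2 := hy.1 m _ (right_ne_zero_of_mul hne)
    simp only [glev] at h1 h2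
    omega
  · simp

theorem rd_inv {φ : ℕ → ℤ} {c : ℤ} (hc : 0 < c) {q : ℕ} (hq : φ q < 2 * c) {x : GE}
    (hx : x ∈ gshiftGroup chevE8 K2 φ c hc.le) : rd q x⁻¹ = rd q x := by
  have h := rd_mul hc hq hx (inv_mem hx)
  rw [mul_inv_cancel, rd_one] at h
  revert h
  generalize rd q x⁻¹ = a
  generalize rd q x = b
  revert a b
  decide

theorem rd_H_mul {d : ℤ} (hd : 1 ≤ d) {q : ℕ} (hq : wt q = d) {x y : GE} (hx : x ∈ H d) (hy : y ∈ H d) :
    rd q (x * y) = rd q x + rd q y :=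
  rd_mul (φ := wt) (by omega) (by omega) (H_shift (by omega) hx) (H_shift (by omega) hy)

theorem rd_H_inv {d : ℤ} (hd : 1 ≤ d) {q : ℕ} (hq : wt q = d) {x : GE} (hx : x ∈ H d) :
    rd q x⁻¹ = rd q x :=
  rd_inv (φ := wt) (by omega) (by omega) (H_shift (by omega) hx)

theorem rd_H_zero {d : ℤ} (hd : 1 ≤ d) {q : ℕ} (hq : wt q < d) {x : GE} (hx : x ∈ H d) : rd q x = 0 :=
  rd_zero_of_lt (φ := wt) _ (H_shift (by omega) hx) hq

/-- An element of `H d` all whose coordinates of weight `d` vanish lies in `H (d + 1)`. -/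
theorem mem_succ {d : ℤ} (hd : 1 ≤ d) {x : GE} (hx : x ∈ H d)
    (h : ∀ q < 240, wt q = d → rd q x = 0) : x ∈ H (d + 1) := by
  classical
  let M : Finset ℕ → Subgroup GE := fun S => Subgroup.closure {y | ∃ r ∈ S, y = X r} ⊔ H (d + 1)
  have hM : ∀ S : Finset ℕ, (∀ r ∈ S, r < 240 ∧ wt r = d) → M S ≤ H d := fun S hS =>
    sup_le ((Subgroup.closure_le _).2 fun y ⟨r, hr, e⟩ => e ▸ X_mem_H (hS r hr).1 (hS r hr).2.ge)
      (H_anti (by omega))
  have hnorm : ∀ S : Finset ℕ, (∀ r ∈ S, r < 240 ∧ wt r = d) → ∀ q, q < 240 → wt q = d →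
      X q ∈ Subgroup.normalizer (M S : Set GE) := by
    intro S hS q hq hqd
    have hn : ∀ y ∈ M S, X q * y * (X q)⁻¹ ∈ M S := by
      intro y hy
      rw [show X q * y * (X q)⁻¹ = ⁅X q, y⁆ * y by rw [commutatorElement_def]; group]
      exact mul_mem (Subgroup.mem_sup_right (H_anti (by omega)
        (comm_mem hd hd (X_mem_H hq hqd.ge) (hM S hS hy)))) hy
    refine Subgroup.mem_normalizer_iff.2 fun y => ⟨fun hy => hn y hy, fun hy => ?_⟩
    have := hn _ hy
    rwa [show X q * (X q * y * (X q)⁻¹) * (X q)⁻¹ = y by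
      nth_rewrite 1 [← X_inv q]; nth_rewrite 4 [← X_inv q]; group] at this
  have key : ∀ S : Finset ℕ, (∀ r ∈ S, r < 240 ∧ wt r = d) → ∀ y ∈ M S,
      (∀ r ∈ S, rd r y = 0) → y ∈ H (d + 1) := by
    intro S
    induction S using Finset.induction with
    | empty =>
      intro _ y hy _
      simpa [M] using hy
    | @insert q S hqS ih =>
      intro hS y hy hz
      obtain ⟨hq, hqd⟩ := hS q (Finset.mem_insert_self q S)
      have hS' : ∀ r ∈ S, r < 240 ∧ wt r = d := fun r hr => hS r (Finset.mem_insert_of_mem hr)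
      have hle : M (insert q S) ≤ Subgroup.zpowers (X q) ⊔ M S := by
        refine sup_le ((Subgroup.closure_le _).2 ?_) (le_sup_of_le_right le_sup_right)
        rintro z ⟨r, hr, rfl⟩
        rcases Finset.mem_insert.1 hr with rfl | hr
        · exact Subgroup.mem_sup_left (Subgroup.mem_zpowers _)
        · exact Subgroup.mem_sup_right (Subgroup.mem_sup_left (Subgroup.subset_closure ⟨r, hr, rfl⟩))
      have hy' := hle hy
      rw [← SetLike.mem_coe, Subgroup.coe_mul_of_left_le_normalizer_right _ _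
        (Subgroup.zpowers_le.2 (hnorm S hS' q hq hqd))] at hy'
      obtain ⟨e, he, z, hz', rfl⟩ := Set.mem_mul.1 hy'
      have he' : e = 1 ∨ e = X q := by
        obtain ⟨k, rfl⟩ := Subgroup.mem_zpowers_iff.1 he
        rcases Int.even_or_odd k with ⟨m, rfl⟩ | ⟨m, rfl⟩
        · left
          rw [← two_mul, zpow_mul, zpow_two]
          nth_rewrite 1 [← X_inv q]; rw [inv_mul_cancel, one_zpow]
        · right
          rw [zpow_add, zpow_mul, zpow_two, zpow_one]
          nth_rewrite 1 [← X_inv q]; rw [inv_mul_cancel, one_zpow, one_mul]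
      have hzq : rd q z = 0 := by
        have hker : ∀ w ∈ M S, rd q w = 0 := by
          intro w hw
          rw [show M S = Subgroup.closure ({y | ∃ r ∈ S, y = X r} ∪ {y | ∃ r, r < 240 ∧ d + 1 ≤ wt r ∧ y = X r})
            from (Subgroup.closure_union _ _).symm] at hw
          have hin : ∀ w ∈ Subgroup.closure ({y | ∃ r ∈ S, y = X r} ∪ {y | ∃ r, r < 240 ∧ d + 1 ≤ wt r ∧ y = X r}),
              w ∈ H d := fun w hw => hM S hS' (by
                rw [show M S = Subgroup.closure ({y | ∃ r ∈ S, y = X r} ∪ {y | ∃ r, r < 240 ∧ d + 1 ≤ wt r ∧ y = X r})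
                  from (Subgroup.closure_union _ _).symm]; exact hw)
          induction hw using Subgroup.closure_induction with
          | mem w hw =>
            rcases hw with ⟨r, hr, rfl⟩ | ⟨r, hr, hrd, rfl⟩
            · rw [rd_X hq (hS' r hr).1, if_neg (fun (e : q = r) => hqS (e ▸ hr))]
            · rw [rd_X hq hr, if_neg]; rintro rfl; omega
          | one => exact rd_one q
          | mul a b ha hb iha ihb => rw [rd_H_mul hd hqd (hin a ha) (hin b hb), iha, ihb, add_zero]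
          | inv a ha iha => rw [rd_H_inv hd hqd (hin a ha), iha]
        exact hker z hz'
      have heH : e ∈ H d := by
        rcases he' with rfl | rfl
        exacts [one_mem _, X_mem_H hq hqd.ge]
      have h0 := hz q (Finset.mem_insert_self q S)
      rw [rd_H_mul hd hqd heH (hM S hS' hz'), hzq, add_zero] at h0
      rcases he' with rfl | rfl
      · rw [one_mul]
        refine ih hS' z hz' fun r hr => ?_
        simpa using hz r (Finset.mem_insert_of_mem hr)
      · rw [rd_X hq hq, if_pos rfl] at h0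
        exact absurd h0 one_ne_zero
  let S := (Finset.range 240).filter fun r => wt r = d
  refine key S (fun r hr => ⟨Finset.mem_range.1 (Finset.mem_filter.1 hr).1, (Finset.mem_filter.1 hr).2⟩) x ?_
    fun r hr => h r (Finset.mem_range.1 (Finset.mem_filter.1 hr).1) (Finset.mem_filter.1 hr).2
  have : H d ≤ M S := by
    refine (Subgroup.closure_le _).2 ?_
    rintro y ⟨r, hr, hrd, rfl⟩
    rcases hrd.lt_or_eq with hlt | heq
    · exact Subgroup.mem_sup_right (X_mem_H hr (by omega))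
    · exact Subgroup.mem_sup_left (Subgroup.subset_closure
        ⟨r, Finset.mem_filter.2 ⟨Finset.mem_range.2 hr, heq.symm⟩, rfl⟩)
  exact this hx

/-- Commutation with a root element shifts coordinates. -/
theorem rd_comm {d : ℤ} (hd : 1 ≤ d) {r s q : ℕ} (hr : r < 240) (hrd : wt r = d) (hs : s < 240)
    (hsd : 1 ≤ wt s) (hq : q < 240)
    (hw : ∀ k < chevE8.rank, tblE8.cartan k q = tblE8.cartan k r + tblE8.cartan k s)
    (hone : rd q ⁅X s, X r⁆ = 1) {y : GE} (hy : y ∈ H d) : rd q ⁅X s, y⁆ = rd r y := by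
  have hqd : wt q = d + wt s := by
    rw [wt_eq (i := 1) (j := 1) (r := r) (s := s) fun k hk => by rw [hw k hk]; push_cast; ring]
    push_cast; omega
  induction hy using Subgroup.closure_induction with
  | mem y hy =>
    obtain ⟨u, hu, hud, rfl⟩ := hy
    by_cases e : u = r
    · subst e; rw [hone, rd_X hr hr, if_pos rfl]
    rw [rd_X hr hu, if_neg (Ne.symm e)]
    rcases hud.lt_or_eq with hlt | heq
    · exact rd_H_zero (d := d + 1 + wt s) (by omega) (by omega)
        (H_anti (by omega) (comm_gen hsd (by omega : (1 : ℤ) ≤ d + 1) hs hu le_rfl (by omega)))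
    by_cases hsu : s = u
    · subst hsu; rw [commutatorElement_self, rd_one]
    obtain ⟨l, hl, hc⟩ := comm_X hu hs hsu (fun e' => by have := wt_neg hu; rw [← e'] at this; omega)
    rw [hc]
    have hmem : ∀ x ∈ (l.map fun p => xg cE p.1 p.2), x ∈ H (d + wt s) ∧ rd q x = 0 := by
      intro x hx
      obtain ⟨p, hp, rfl⟩ := List.mem_map.1 hx
      obtain ⟨hp1, i, j, hi, hj, hpw⟩ := hl p hp
      have hwp := wt_eq hpw
      have hi' : (1 : ℤ) ≤ i := by exact_mod_cast hi
      have hj' : (1 : ℤ) ≤ j := by exact_mod_cast hj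
      have hpge : d + wt s ≤ wt p.1 := by rw [hwp]; nlinarith
      refine ⟨xg_mem (X_mem_H hp1 hpge) _, ?_⟩
      rcases xg_cases p.1 p.2 with h0 | h0 <;> rw [h0]
      · exact rd_one q
      rw [rd_X hq hp1, if_neg]
      intro hqp
      rw [hqp, hwp, ← heq] at hqd
      have hi1 : (i : ℤ) = 1 := by nlinarith
      have hj1 : (j : ℤ) = 1 := by nlinarith
      refine e (cE.eq_of_weight (nrootsE ▸ hu) (nrootsE ▸ hr) fun k hk => ?_)
      have := hpw k hk
      rw [← hqp, hw k hk, hi1, hj1] at this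
      linarith
    generalize (l.map fun p => xg cE p.1 p.2) = L at hmem
    induction L with
    | nil => exact rd_one q
    | cons a L ih =>
      rw [List.prod_cons, rd_H_mul (d := d + wt s) (by omega) hqd (hmem a (by simp)).1
        (list_prod_mem fun x hx => (hmem x (by simp [hx])).1), (hmem a (by simp)).2,
        ih (fun x hx => hmem x (by simp [hx])), add_zero]
  | one => simp [rd_one]
  | mul y z hy hz ihy ihz =>
    have hs' := X_mem_H hs le_rfl
    have h1 : ⁅X s, y⁆ ∈ H (d + wt s) := H_anti (by omega) (comm_mem hsd hd hs' hy)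
    have h2 : ⁅X s, z⁆ ∈ H (d + wt s) := H_anti (by omega) (comm_mem hsd hd hs' hz)
    have h3 : ⁅y, ⁅X s, z⁆⁆ ∈ H (d + (d + wt s)) := comm_mem hd (by omega) hy h2
    rw [show ⁅X s, y * z⁆ = ⁅X s, y⁆ * (⁅y, ⁅X s, z⁆⁆ * ⁅X s, z⁆) by
      simp only [commutatorElement_def]; group,
      rd_H_mul (d := d + wt s) (by omega) hqd h1 (mul_mem (H_anti (by omega) h3) h2),
      rd_H_mul (d := d + wt s) (by omega) hqd (H_anti (by omega) h3) h2,
      rd_H_zero (by omega) (by omega) h3, zero_add, rd_H_mul hd hrd hy hz, ihy, ihz]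
  | inv y hy ih =>
    have hs' := X_mem_H hs le_rfl
    have h1 : ⁅X s, y⁆⁻¹ ∈ H (d + wt s) := inv_mem (H_anti (by omega) (comm_mem hsd hd hs' hy))
    have h3 : ⁅y⁻¹, ⁅X s, y⁆⁻¹⁆ ∈ H (d + (d + wt s)) := comm_mem hd (by omega) (inv_mem hy) h1
    rw [show ⁅X s, y⁻¹⁆ = ⁅y⁻¹, ⁅X s, y⁆⁻¹⁆ * ⁅X s, y⁆⁻¹ by
      simp only [commutatorElement_def]; group,
      rd_H_mul (d := d + wt s) (by omega) hqd (H_anti (by omega) h3) h1,
      rd_H_zero (by omega) (by omega) h3, zero_add,
      rd_H_inv (d := d + wt s) (by omega) hqd (inv_mem_iff.1 h1), rd_H_inv hd hrd hy, ih]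

end Cfsg.Agent.E8Core
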