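import Cfsg.Agent.Lib.E8Core.Fil

/-!
The maximal parabolic subgroup of the branch node in E8 over the field with two elements: a normal subgroup
contained in the `k`-th layer whose conjugate by the simple reflection is also contained there lies in the
next layer.
-/

set_option autoImplicit false

namespace Cfsg.Agent.E8Core

open Cfsg.Lie Cfsg.Lib.Chev
open scoped Pointwise commutatorElement

/-- The fundamental roots other than the branch one. -/
def simps : List ℕ := [162, 141, 135, 126, 123, 121, 120]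

/-- The roots of largest weight in a layer. -/
def tops : ℕ → List ℕ
  | 0 => [129, 141, 163]
  | 1 => [173]
  | 2 => [193]
  | 3 => [213]
  | 4 => [230]
  | 5 => [234]
  | _ => [239]

/-- The commutator of the root elements at `r` and `s` is the root element at `p`. -/
def commOK (r s p : ℕ) : Bool :=
  decide (s ≠ r) && decide (s ≠ tblE8.neg r) &&
    match tTerms tblE8 r s with
    | [(p', c, _, _)] => decide (p' = p) && decide (c % 2 ≠ 0)
    | _ => false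

/-- The root at `p` is the sum of the roots at `r` and `s`. -/
def sumOK (r s p : ℕ) : Bool :=
  (List.range 8).all fun k => decide (tblE8.cartan k p = tblE8.cartan k r + tblE8.cartan k s)

/-- The sum of the roots at `r` and `s`, if it is one. -/
def sumRoot (r s : ℕ) : ℕ :=
  match tTerms tblE8 r s with
  | (p, _) :: _ => p
  | [] => 0

theorem comm_of_ok {r s p : ℕ} (hr : r < 240) (hs : s < 240) (h : commOK r s p = true) :
    ⁅X s, X r⁆ = X p := by
  simp only [commOK, Bool.and_eq_true, decide_eq_true_eq] at h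
  obtain ⟨⟨h1, h2⟩, h3⟩ := h
  have e := comm_xg_prod cE kE (nrootsE ▸ hr) (nrootsE ▸ hs) h1 h2 (1 : K2) 1
  change ⁅(X s)⁻¹, (X r)⁻¹⁆ = _ at e
  rw [X_inv, X_inv] at e
  rw [e]
  split at h3
  · next p' c a b heq =>
    simp only [Bool.and_eq_true, decide_eq_true_eq] at h3
    obtain ⟨rfl, hc⟩ := h3
    rw [heq]
    simp only [List.map_cons, List.map_nil, List.prod_cons, List.prod_nil, mul_one]
    rw [show (-1 : K2) = 1 by decide, one_pow, one_pow, mul_one, mul_one, X]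
    congr 1
    refine k2_unit ?_
    rw [Ne, ZMod.intCast_zmod_eq_zero_iff_dvd]
    push_cast
    omega
  · simp at h3

theorem sum_of_ok {r s p : ℕ} (h : sumOK r s p = true) :
    ∀ k < chevE8.rank, tblE8.cartan k p = tblE8.cartan k r + tblE8.cartan k s := by
  intro k hk
  rw [rankE] at hk
  exact of_decide_eq_true (List.all_eq_true.1 h k (List.mem_range.2 hk))

/-- The numerical facts about a single root. -/
def rootFacts (r : ℕ) : Bool :=
  decide ((1 ≤ wt r → 100 * lvl r ≤ wt r ∧ wt r < 100 * (lvl r + 1) ∧ 0 ≤ lvl r ∧ lvl r ≤ 6)) &&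
  decide ((1 ≤ lvl r → 1 ≤ wt r)) &&
  decide ((120 ≤ r → 1 ≤ wt r)) &&
  decide ((r < 120 → lvl r ≤ 0)) &&
  decide (lvl r = tblE8.coroot r 3) &&
  decide ((2 ≤ lvl r → lvl r - 1 ≤ lvl (tblE8.refl' 3 r))) &&
  decide ((1 ≤ wt r → ∀ q ∈ tops (lvl r).toNat, (lvl r).toNat ≠ 0 → wt r ≤ wt q ∧ (wt r = wt q → r = q))) &&
  bif decide (1 ≤ wt r ∧ r ∉ tops (lvl r).toNat) then
    simps.any fun s => commOK r s (sumRoot r s) && sumOK r s (sumRoot r s) && decide (sumRoot r s < 240)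
  else true

theorem chk_rootFacts : allBelow rootFacts 240 = true := by decide +kernel

theorem chk_simps : ∀ s ∈ simps, s < 240 ∧ lvl s = 0 ∧ wt s = 1 := by decide +kernel

theorem lvl_simple : ∀ j < 8, j ≠ 3 → lvl (tblE8.simp' j) = 0 := by decide +kernel

section Facts

variable {r : ℕ} (hr : r < 240)
include hr

theorem facts :
    (1 ≤ wt r → 100 * lvl r ≤ wt r ∧ wt r < 100 * (lvl r + 1) ∧ 0 ≤ lvl r ∧ lvl r ≤ 6) ∧
    (1 ≤ lvl r → 1 ≤ wt r) ∧ (120 ≤ r → 1 ≤ wt r) ∧ (r < 120 → lvl r ≤ 0) ∧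
    lvl r = tblE8.coroot r 3 ∧ (2 ≤ lvl r → lvl r - 1 ≤ lvl (tblE8.refl' 3 r)) ∧
    (1 ≤ wt r → ∀ q ∈ tops (lvl r).toNat, (lvl r).toNat ≠ 0 → wt r ≤ wt q ∧ (wt r = wt q → r = q)) ∧
    (1 ≤ wt r → r ∉ tops (lvl r).toNat → ∃ s ∈ simps, ∃ p < 240, commOK r s p = true ∧ sumOK r s p = true) := by
  have h := allBelow_iff.1 chk_rootFacts r hr
  simp only [rootFacts, Bool.and_eq_true, decide_eq_true_eq] at h
  obtain ⟨⟨⟨⟨⟨⟨⟨h1, h2⟩, h3⟩, h4⟩, h5⟩, h6⟩, h7⟩, h8⟩ := h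
  refine ⟨h1, h2, h3, h4, h5, h6, h7, fun hw hn => ?_⟩
  rw [decide_eq_true (p := 1 ≤ wt r ∧ r ∉ tops (lvl r).toNat) ⟨hw, hn⟩] at h8
  simp only [cond_true, List.any_eq_true, Bool.and_eq_true, decide_eq_true_eq] at h8
  obtain ⟨s, hs, ⟨hc, hsum⟩, hp⟩ := h8
  exact ⟨s, hs, _, hp, hc, hsum⟩

theorem lvl_of_wt {k : ℕ} (h1 : 1 ≤ wt r) (h : 100 * (k : ℤ) ≤ wt r) : (k : ℤ) ≤ lvl r := by
  obtain ⟨_, b, _⟩ := (facts hr).1 h1
  omega

theorem wt_of_lvl {k : ℕ} (hk : 1 ≤ k) (h : (k : ℤ) ≤ lvl r) : 100 * (k : ℤ) ≤ wt r := by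
  obtain ⟨a, -⟩ := (facts hr).1 ((facts hr).2.1 (by omega))
  omega

theorem lvl_nonneg_of_wt (h : 1 ≤ wt r) : 0 ≤ lvl r := ((facts hr).1 h).2.2.1

end Facts

attribute [local irreducible] lvl wt

/-- The layers. -/
def V (k : ℕ) : Subgroup GE := H (100 * (k : ℤ))

/-- The parabolic subgroup. -/
def P : Subgroup GE := Subgroup.closure {x | ∃ r, r < 240 ∧ 0 ≤ lvl r ∧ x = X r}

theorem X_mem_P {r : ℕ} (hr : r < 240) (h : 0 ≤ lvl r) : X r ∈ P := Subgroup.subset_closure ⟨r, hr, h, rfl⟩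

theorem X_mem_V {k r : ℕ} (hk : 1 ≤ k) (hr : r < 240) (h : (k : ℤ) ≤ lvl r) : X r ∈ V k :=
  X_mem_H hr (wt_of_lvl hr hk h)

theorem V_gen {k : ℕ} (hk : 1 ≤ k) :
    V k = Subgroup.closure {x | ∃ r, r < 240 ∧ (k : ℤ) ≤ lvl r ∧ x = X r} := by
  unfold V H
  refine congrArg Subgroup.closure (Set.ext fun x => ⟨?_, ?_⟩)
  · rintro ⟨r, hr, h, e⟩
    exact ⟨r, hr, lvl_of_wt hr (by omega) h, e⟩
  · rintro ⟨r, hr, h, e⟩
    exact ⟨r, hr, wt_of_lvl hr hk h, e⟩

theorem V_anti {k l : ℕ} (h : k ≤ l) : V l ≤ V k := H_anti (by omega)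

theorem H_le_P {d : ℤ} (hd : 1 ≤ d) : H d ≤ P :=
  (Subgroup.closure_le _).2 fun _ ⟨_, hr, h, e⟩ => e ▸ X_mem_P hr (lvl_nonneg_of_wt hr (hd.trans h))

theorem V_le_P {k : ℕ} (hk : 1 ≤ k) : V k ≤ P := H_le_P (by omega)

theorem V_seven : V 7 = ⊥ := by
  rw [V_gen (by norm_num)]
  refine (Subgroup.eq_bot_iff_forall _).2 fun x hx => ?_
  induction hx using Subgroup.closure_induction with
  | mem x hx =>
    obtain ⟨r, hr, hl, -⟩ := hx
    have := ((facts hr).1 ((facts hr).2.1 (by omega))).2.2.2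
    omega
  | one => rfl
  | mul a b _ _ ha hb => rw [ha, hb, one_mul]
  | inv a _ ha => rw [ha, inv_one]

theorem P_norm_V {k : ℕ} (hk : 1 ≤ k) {g y : GE} (hg : g ∈ P) (hy : y ∈ V k) : g * y * g⁻¹ ∈ V k := by
  have hle : P ≤ Subgroup.normalizer (V k : Set GE) := by
    refine (Subgroup.closure_le _).2 ?_
    rintro x ⟨r, hr, hl, rfl⟩
    rw [V_gen hk]
    have key : ∀ z ∈ {x | ∃ q, q < 240 ∧ (k : ℤ) ≤ lvl q ∧ x = X q},
        X r * z * (X r)⁻¹ ∈ Subgroup.closure {x | ∃ q, q < 240 ∧ (k : ℤ) ≤ lvl q ∧ x = X q} := by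
      rintro z ⟨q, hq, hql, rfl⟩
      rw [show X r * X q * (X r)⁻¹ = ⁅X r, X q⁆ * X q by rw [commutatorElement_def]; group]
      refine mul_mem ?_ (Subgroup.subset_closure ⟨q, hq, hql, rfl⟩)
      by_cases e : r = q
      · subst e; rw [commutatorElement_self]; exact one_mem _
      obtain ⟨l, hl', hc⟩ := comm_X hq hr e (fun e' => by
        have := isLin_neg cE lvl_lin (nrootsE ▸ hq)
        rw [← e'] at this
        omega)
      rw [hc, ← V_gen hk]
      refine Subgroup.list_prod_mem (V k) fun w hw => ?_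
      obtain ⟨p, hp, rfl⟩ := List.mem_map.1 hw
      obtain ⟨hp1, i, j, hi, hj, hpw⟩ := hl' p hp
      refine xg_mem (X_mem_V hk hp1 ?_) _
      rw [lvl_eq hpw]
      have : (1 : ℤ) ≤ i := by exact_mod_cast hi
      have : (1 : ℤ) ≤ j := by exact_mod_cast hj
      nlinarith
    refine mem_normalizer_closure key fun z hz => ?_
    have := key z hz
    rwa [X_inv] at this ⊢
  exact (Subgroup.mem_normalizer_iff.1 (hle hg) y).1 hy

/-- Conjugation by the element of a word. -/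
theorem wnu_X {w : List ℕ} (hw : IsWord chevE8 w) {r : ℕ} (hr : r < 240) :
    wnu cE K2 w * X r * (wnu cE K2 w)⁻¹ = X (wperm tblE8 w r) := by
  obtain ⟨c, hc, h⟩ := wnu_conj_xg cE (F := K2) hw (nrootsE ▸ hr)
  have hc0 : c ≠ 0 := left_ne_zero_of_mul (by rw [hc]; exact one_ne_zero)
  obtain rfl : c = 1 := k2_unit hc0
  unfold X
  rw [h 1, one_mul]

/-- The simple reflection at the branch node. -/
noncomputable def sw : GE := nu cE 3

theorem sw_eq : sw = wnu cE K2 [3] := by simp [sw, wnu]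

theorem sw_sq : sw * sw = 1 := by
  rw [sw, nu_sq cE (by rw [rankE]; norm_num), show (-1 : K2) = 1 by decide]
  refine Units.ext ?_
  rw [coe_hg_eq cE (cE.spec.simp_lt 3 (by rw [rankE]; norm_num)) one_ne_zero, coDiag, Units.val_one]
  simp only [one_zpow]
  exact scal_one

theorem sw_inv : sw⁻¹ = sw := inv_eq_of_mul_eq_one_right sw_sq

theorem sw_X {r : ℕ} (hr : r < 240) : sw * X r * sw⁻¹ = X (tblE8.refl' 3 r) := by
  rw [sw_eq]
  exact wnu_X (fun i hi => by rw [List.mem_singleton.1 hi, rankE]; norm_num) hr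

theorem refl3_lt {r : ℕ} (hr : r < 240) : tblE8.refl' 3 r < 240 :=
  nrootsE ▸ cE.spec.refl_lt 3 (by rw [rankE]; norm_num) r (nrootsE ▸ hr)

theorem rd_one_ne {r : ℕ} (hr : r < 240) {c : ℤ} (hc : 0 ≤ c) (h : lvl r < c) :
    X r ∉ gshiftGroup chevE8 K2 lvl c hc := by
  intro hx
  have := rd_zero_of_lt (φ := lvl) hc hx h
  rw [rd_X hr hr, if_pos rfl] at this
  exact one_ne_zero this

theorem P_shift : P ≤ gshiftGroup chevE8 K2 lvl 0 le_rfl :=
  (Subgroup.closure_le _).2 fun _ ⟨_, hr, h, e⟩ => e ▸ xg_mem_gshift cE lvl_lin (nrootsE ▸ hr) 1 h le_rfl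

theorem V_shift {k : ℕ} (hk : 1 ≤ k) : V k ≤ gshiftGroup chevE8 K2 lvl (k : ℤ) (by omega) := by
  rw [V_gen hk]
  exact (Subgroup.closure_le _).2 fun _ ⟨_, hr, h, e⟩ => e ▸ xg_mem_gshift cE lvl_lin (nrootsE ▸ hr) 1 h _

theorem conj_mem_of_gen {S : Set GE} {g y : GE} {W : Subgroup GE} (h : ∀ x ∈ S, g * x * g⁻¹ ∈ W)
    (hy : y ∈ Subgroup.closure S) : g * y * g⁻¹ ∈ W := by
  have : Subgroup.closure S ≤ W.comap (MulAut.conj g).toMonoidHom :=
    (Subgroup.closure_le _).2 fun x hx => by simpa using h x hx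
  simpa using this hy

theorem sw_V {k : ℕ} (hk : 1 ≤ k) {y : GE} (hy : y ∈ V (k + 1)) : sw * y * sw⁻¹ ∈ V k := by
  rw [V_gen (by omega)] at hy
  refine conj_mem_of_gen ?_ hy
  rintro x ⟨r, hr, hl, rfl⟩
  rw [sw_X hr]
  have := (facts hr).2.2.2.2.2.1 (by push_cast at hl; omega)
  exact X_mem_V hk (refl3_lt hr) (by push_cast at hl; omega)

/-- A nontrivial element of a layer gives one at a top root. -/
theorem raise {N : Subgroup GE} (hN : ∀ g ∈ H 1, ∀ y ∈ N, g * y * g⁻¹ ∈ N) (k : ℕ) :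
    ∀ (n : ℕ) (d : ℤ) (x : GE), 100 * ((k : ℤ) + 1) ≤ d + n → 1 ≤ d → 100 * (k : ℤ) ≤ d → x ∈ N → x ∈ H d →
      x ∉ H (100 * ((k : ℤ) + 1)) → ∃ q ∈ tops k, q < 240 ∧ 1 ≤ wt q ∧ lvl q = k ∧ ∃ y ∈ N, y ∈ H (wt q) ∧ rd q y = 1 := by
  intro n
  induction n with
  | zero => intro d x hd _ _ _ hx hn; exact absurd (H_anti (by simpa using hd) hx) hn
  | succ n ih =>
    intro d x hd h1 hk hxN hx hn
    by_cases hz : ∀ q < 240, wt q = d → rd q x = 0
    · exact ih (d + 1) x (by push_cast at hd; omega) (by omega) (by omega) hxN (mem_succ h1 hx hz) hn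
    push Not at hz
    obtain ⟨q, hq, hqd, hne⟩ := hz
    have hq1 : rd q x = 1 := k2_unit hne
    have hd' : d < 100 * ((k : ℤ) + 1) := by
      by_contra hcon
      exact hn (H_anti (by omega) hx)
    obtain ⟨hlo, hhi, -⟩ := (facts hq).1 (by omega)
    have hl : lvl q = k := by omega
    by_cases ht : q ∈ tops k
    · exact ⟨q, ht, hq, by omega, hl, x, hxN, hqd ▸ hx, hq1⟩
    obtain ⟨s, hs, p, hp, hc, hsum⟩ := (facts hq).2.2.2.2.2.2.2 (by omega) (by rwa [hl, Int.toNat_natCast])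
    obtain ⟨hs', hsl, hsw⟩ := chk_simps s hs
    have hpw : wt p = d + 1 := by
      rw [wt_eq (i := 1) (j := 1) (r := q) (s := s) fun m hm => by rw [sum_of_ok hsum m hm]; push_cast; ring]
      push_cast; omega
    have hpl : lvl p = k := by
      rw [lvl_eq (i := 1) (j := 1) (r := q) (s := s) fun m hm => by rw [sum_of_ok hsum m hm]; push_cast; ring]
      push_cast; omega
    have hy : ⁅X s, x⁆ ∈ H (d + 1) := H_anti (by omega) (comm_mem (a := 1) le_rfl h1 (X_mem_H hs' hsw.ge) hx)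
    have hyr : rd p ⁅X s, x⁆ = 1 := by
      rw [rd_comm h1 hq hqd hs' hsw.ge hp (sum_of_ok hsum) (by rw [comm_of_ok hq hs' hc, rd_X hp hp, if_pos rfl]) hx]
      exact hq1
    refine ih (d + 1) ⁅X s, x⁆ (by push_cast at hd; omega) (by omega) (by omega) ?_ hy fun hy' => ?_
    · rw [commutatorElement_def]
      exact mul_mem (hN _ (X_mem_H hs' hsw.ge) x hxN) (inv_mem hxN)
    · obtain ⟨-, hhi', -⟩ := (facts hp).1 (by omega)
      rw [rd_H_zero (by omega) (by omega) hy'] at hyr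
      exact zero_ne_one hyr

theorem nu_mem_P {j : ℕ} (hj : j < 8) (h3 : j ≠ 3) : (nu cE j : GE) ∈ P := by
  have hs := cE.spec.simp_lt j (rankE ▸ hj)
  rw [nu, ng]
  simp only [inv_one]
  have hl : lvl (tblE8.simp' j) = 0 := lvl_simple j hj h3
  have hn : lvl (tblE8.neg (tblE8.simp' j)) = 0 := by rw [isLin_neg cE lvl_lin hs, hl, neg_zero]
  refine mul_mem (mul_mem (xg_mem ?_ _) (xg_mem ?_ _)) (xg_mem ?_ _)
  · exact X_mem_P (nrootsE ▸ hs) hl.ge
  · rw [cE.spec.shape.neg_eq _ hs]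
    exact X_mem_P (nrootsE ▸ cE.spec.neg_lt _ hs) hn.ge
  · exact X_mem_P (nrootsE ▸ hs) hl.ge

theorem wnu_mem_P {w : List ℕ} (hw : ∀ i ∈ w, i < 8 ∧ i ≠ 3) : wnu cE K2 w ∈ P :=
  Subgroup.list_prod_mem P fun x hx => by
    obtain ⟨i, hi, rfl⟩ := List.mem_map.1 hx
    exact nu_mem_P (hw i hi).1 (hw i hi).2

/-- One step between layers. -/
theorem step {k c bad : ℕ} {w : List ℕ} {top : ℕ} (hk : 1 ≤ k) (hk6 : k ≤ 6) (ht : tops k = [top])
    (hw : ∀ i ∈ w, i < 8 ∧ i ≠ 3) (hbad : wperm tblE8 w top = bad) (hb : lvl (tblE8.refl' 3 bad) < c)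
    (hc : ∀ r < 240, ((k + 1 : ℕ) : ℤ) ≤ lvl r → (c : ℤ) ≤ lvl (tblE8.refl' 3 r))
    {N : Subgroup GE} (hN : ∀ g ∈ P, ∀ y ∈ N, g * y * g⁻¹ ∈ N) (hNV : N ≤ V k)
    (hs : ∀ y ∈ N, sw * y * sw⁻¹ ∈ gshiftGroup chevE8 K2 lvl (c : ℤ) (by omega)) : N ≤ V (k + 1) := by
  intro x hx
  by_contra hxn
  obtain ⟨q, hq, hq', hq1, hql, y, hyN, hy, hy1⟩ := raise (N := N) (fun g hg => hN g (H_le_P le_rfl hg)) k
    100 (100 * (k : ℤ)) x (by omega) (by omega) le_rfl hx (hNV hx) (by rw [V] at hxn; push_cast at hxn; exact hxn)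
  rw [ht, List.mem_singleton] at hq
  subst hq
  have hz : X q * y ∈ H (wt q + 1) := by
    refine mem_succ hq1 (mul_mem (X_mem_H hq' le_rfl) hy) fun r hr hrq => ?_
    have hl : lvl r = k := by
      obtain ⟨a, b, -⟩ := (facts hr).1 (by omega)
      obtain ⟨a', b', -⟩ := (facts hq').1 hq1
      omega
    have e := (((facts hr).2.2.2.2.2.2.1 (by omega)) q (by rw [hl, Int.toNat_natCast, ht]; simp) (by omega)).2 hrq
    subst e
    rw [rd_H_mul hq1 rfl (X_mem_H hq' le_rfl) hy, rd_X hq' hq', if_pos rfl, hy1]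
    decide
  have hV : X q * y ∈ V (k + 1) := by
    rw [V_gen (by omega)]
    refine Subgroup.closure_mono ?_ hz
    rintro z ⟨r, hr, hrw, rfl⟩
    refine ⟨r, hr, ?_, rfl⟩
    by_contra hlt
    obtain ⟨a, b, c', -⟩ := (facts hr).1 (by omega)
    obtain ⟨a', b', -⟩ := (facts hq').1 hq1
    push_cast at hlt
    have hl : lvl r = k := by omega
    have := (((facts hr).2.2.2.2.2.2.1 (by omega)) q (by rw [hl, Int.toNat_natCast, ht]; simp) (by omega)).1
    omega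
  generalize hm : wnu cE K2 w = m
  have hmP : m ∈ P := hm ▸ wnu_mem_P hw
  have hwd : IsWord chevE8 w := fun i hi => rankE.symm ▸ (hw i hi).1
  have hbad' : bad < 240 := hbad ▸ nrootsE ▸ wperm_lt cE hwd (nrootsE ▸ hq')
  have e : sw * (m * y * m⁻¹) * sw⁻¹ =
      X (tblE8.refl' 3 bad) * (sw * (m * (X q * y) * m⁻¹) * sw⁻¹) := by
    rw [← sw_X hbad', ← hbad, ← wnu_X hwd hq', hm]
    nth_rewrite 2 [← X_inv q]
    group
  have h1 := hs _ (hN m hmP y hyN)
  rw [e] at h1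
  have h2 : sw * (m * (X q * y) * m⁻¹) * sw⁻¹ ∈ gshiftGroup chevE8 K2 lvl (c : ℤ) (by omega) := by
    have hmem := P_norm_V (k := k + 1) (by omega) hmP hV
    rw [V_gen (by omega)] at hmem
    refine conj_mem_of_gen ?_ hmem
    rintro z ⟨r, hr, hrl, rfl⟩
    rw [sw_X hr]
    exact xg_mem_gshift cE lvl_lin (nrootsE ▸ refl3_lt hr) 1 (hc r hr hrl) _
  exact rd_one_ne (refl3_lt hbad') _ hb ((Subgroup.mul_mem_cancel_right _ h2).1 h1)

end Cfsg.Agent.E8Core
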